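import Groth.Agent.GenBCLib.Descent
import Groth.Agent.FlatStage.Point
import Groth.Agent.ExactConstrLib.LocFree

/-!
# Descent of a finitely presented module, flat at a point, to a Noetherian base
-/

set_option autoImplicit false
set_option backward.isDefEq.respectTransparency false
set_option backward.defeqAttrib.useBackward true
set_option linter.style.haveILetI false

universe u

open CategoryTheory CategoryTheory.Limits AlgebraicGeometry Opposite
open Groth.Agent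

noncomputable section

namespace Groth.Agent.NoethDescLib

variable {I : Type u} [SmallCategory I] [IsCofiltered I] (D : I ⥤ Scheme.{u}) (c : Cone D) (hc : IsLimit c)
  [∀ {i j} (a : i ⟶ j), IsAffineHom (D.map a)]

/-- A model over a stage. -/
def Model {X : Scheme.{u}} (f : X ⟶ c.pt) (F : X.Modules)
    (P : ∀ {X₀ : Scheme.{u}} {i : I}, (X₀ ⟶ D.obj i) → X₀.Modules → (X ⟶ X₀) → Prop) : Prop :=
  ∃ (i : I) (X₀ : Scheme.{u}) (f₀ : X₀ ⟶ D.obj i) (q : X ⟶ X₀) (F₀ : X₀.Modules),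
    LocallyOfFinitePresentation f₀ ∧ QuasiCompact f₀ ∧ IsPullback q f f₀ (c.π.app i) ∧ Coh.IsQCoh F₀ ∧
    CohB1.IsFP F₀ ∧ Nonempty ((Scheme.Modules.pullback q).obj F₀ ≅ F) ∧ P f₀ F₀ q

include hc in
/-- A finitely presented family over the limit comes from a family over some stage. -/
theorem exists_module_model [∀ i, IsLocallyNoetherian (D.obj i)] [∀ i, CompactSpace (D.obj i)]
    [∀ i, QuasiSeparatedSpace (D.obj i)] [CompactSpace c.pt] [QuasiSeparatedSpace c.pt] {X : Scheme.{u}}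
    (f : X ⟶ c.pt) [LocallyOfFinitePresentation f] [QuasiCompact f] [QuasiSeparated f]
    (F : X.Modules) [Coh.IsQCoh F] (hF : CohB1.IsFP F) :
    Model D c f F (fun _ _ _ => True) := by
  haveI : CompactSpace X := QuasiCompact.compactSpace_of_compactSpace f
  haveI : QuasiSeparatedSpace X := quasiSeparatedSpace_of_quasiSeparated f
  obtain ⟨i, G, g₀, q, hm⟩ := FPModelLib.Gen.exists_model D c hc f
  haveI := hm.compact
  haveI := hm.qs
  haveI := hm.lfp
  have hsq := hm.isPullback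
  haveI : QuasiCompact g₀ := quasiCompact_of_compactSpace g₀
  obtain ⟨hX⟩ := FlatStage.nonempty_isLimit_vCone D c i g₀ hsq hc
  let o : Over i := Over.mk (𝟙 i)
  haveI : CompactSpace ((AffLim.baseChange D i g₀).obj o) :=
    QuasiCompact.compactSpace_of_compactSpace (pullback.fst g₀ (D.map o.hom))
  haveI : ∀ (a b : Over i) (φ : a ⟶ b), IsAffineHom ((AffLim.baseChange D i g₀).map φ) := fun _ _ _ => inferInstance
  haveI : Coh.IsQCoh (show (FlatStage.vCone D c i g₀ hsq).pt.Modules from F) := ‹_›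
  obtain ⟨k, -, F₁, hq₁, hfp₁, ⟨e₁⟩⟩ := LimHom.exists_stage_module (AffLim.baseChange D i g₀)
    (FlatStage.vCone D c i g₀ hsq) hX o F hF
  let g₁ : (AffLim.baseChange D i g₀).obj k ⟶ D.obj k.left := pullback.snd g₀ (D.map k.hom)
  have hsq₁ : IsPullback (FlatStage.vMap D c i g₀ hsq k) f g₁ (c.π.app k.left) :=
    IsPullback.of_right (by rw [FlatStage.vMap_fst, c.w]; exact hsq) (FlatStage.vMap_snd D c i g₀ hsq k)
      (IsPullback.of_hasPullback g₀ (D.map k.hom))
  exact ⟨k.left, _, g₁, _, F₁, MorphismProperty.pullback_snd (P := @LocallyOfFinitePresentation) _ _ inferInstance,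
    MorphismProperty.pullback_snd (P := @QuasiCompact) _ _ inferInstance, hsq₁, hq₁, hfp₁, ⟨e₁⟩, trivial⟩

variable {X : Scheme.{u}} (f : X ⟶ c.pt) (F : X.Modules)

/-- Passing to a later stage. -/
theorem stage {i : I} {X₁ : Scheme.{u}} (g₁ : X₁ ⟶ D.obj i) (q₁ : X ⟶ X₁) (F₁ : X₁.Modules)
    [LocallyOfFinitePresentation g₁] [QuasiCompact g₁] (hsq : IsPullback q₁ f g₁ (c.π.app i)) [Coh.IsQCoh F₁]
    (hfp : CohB1.IsFP F₁) (e : (Scheme.Modules.pullback q₁).obj F₁ ≅ F) (l : Over i) :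
    ∃ (X₂ : Scheme.{u}) (g₂ : X₂ ⟶ D.obj l.left) (q₂ : X ⟶ X₂) (F₂ : X₂.Modules),
      LocallyOfFinitePresentation g₂ ∧ QuasiCompact g₂ ∧ IsPullback q₂ f g₂ (c.π.app l.left) ∧ Coh.IsQCoh F₂ ∧
      CohB1.IsFP F₂ ∧ Nonempty ((Scheme.Modules.pullback q₂).obj F₂ ≅ F) ∧
      ∀ x : X, FlatMod.IsFlatOverAt ((AffLim.baseChangeMap D i g₁ (𝟙 (D.obj i))).app l)
          ((Scheme.Modules.pullback (pullback.fst (g₁ ≫ 𝟙 _) (D.map l.hom))).obj F₁)
          (FlatStage.vMap D c i (g₁ ≫ 𝟙 _) (hsq.paste_vert (IsPullback.id_vert (c.π.app i))) l x) →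
        FlatMod.IsFlatOverAt g₂ F₂ (q₂ x) := by
  let b : pullback (g₁ ≫ 𝟙 _) (D.map l.hom) ⟶ pullback (𝟙 (D.obj i)) (D.map l.hom) :=
    (AffLim.baseChangeMap D i g₁ (𝟙 _)).app l
  let g₂ : pullback (g₁ ≫ 𝟙 _) (D.map l.hom) ⟶ D.obj l.left := b ≫ pullback.snd (𝟙 _) (D.map l.hom)
  let p₂ := pullback.fst (g₁ ≫ 𝟙 _) (D.map l.hom)
  let F₂ := (Scheme.Modules.pullback p₂).obj F₁
  haveI : Coh.IsQCoh F₂ := PullbackMod.isQCoh_pullback p₂ F₁
  have hsq₂ : IsPullback (𝟙 _) g₂ b (inv (pullback.snd (𝟙 (D.obj i)) (D.map l.hom))) :=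
    IsPullback.of_horiz_isIso ⟨by simp [g₂]⟩
  let q₂ : X ⟶ pullback (g₁ ≫ 𝟙 _) (D.map l.hom) := pullback.lift q₁ (f ≫ c.π.app l.left)
    (by rw [Category.comp_id, Category.assoc, c.w]; exact hsq.w)
  have hs : g₂ = pullback.snd (g₁ ≫ 𝟙 _) (D.map l.hom) := by simp [g₂, b, AffLim.baseChangeMap]
  have hsq₂' : IsPullback q₂ f g₂ (c.π.app l.left) := by
    rw [hs]
    refine IsPullback.of_right ?_ (pullback.lift_snd _ _ _) (IsPullback.of_hasPullback (g₁ ≫ 𝟙 _) (D.map l.hom))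
    rw [pullback.lift_fst, c.w, Category.comp_id]
    exact hsq
  refine ⟨_, g₂, q₂, F₂, ?_, ?_, hsq₂', inferInstance, PullbackMod.isFP_pullback p₂ F₁ hfp,
    ⟨(Scheme.Modules.pullbackComp q₂ p₂).app F₁ ≪≫
      (Scheme.Modules.pullbackCongr (pullback.lift_fst q₁ _ _)).app F₁ ≪≫ e⟩, fun x hx => ?_⟩
  · rw [hs]; exact MorphismProperty.pullback_snd (P := @LocallyOfFinitePresentation) _ _ (by rw [Category.comp_id]; infer_instance)
  · rw [hs]; exact MorphismProperty.pullback_snd (P := @QuasiCompact) _ _ (by rw [Category.comp_id]; infer_instance)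
  · have hv : FlatStage.vMap D c i (g₁ ≫ 𝟙 _) (hsq.paste_vert (IsPullback.id_vert (c.π.app i))) l = q₂ := by
      apply pullback.hom_ext
      · exact (FlatStage.vMap_fst _ _ _ _ _ l).trans (pullback.lift_fst _ _ _).symm
      · exact (FlatStage.vMap_snd _ _ _ _ _ l).trans (pullback.lift_snd _ _ _).symm
    rw [hv] at hx
    exact PullbackMod.isFlatOverAt_of_iso ((Scheme.Modules.pullbackId _).app F₂) g₂ (q₂ x)
      (PullbackMod.isFlatOverAt_baseChange hsq₂ F₂ (q₂ x) hx)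

include hc in
/-- A family flat at a point comes from a family flat at its image over some stage. -/
theorem exists_flatAt_model [∀ i, IsLocallyNoetherian (D.obj i)] [∀ i, CompactSpace (D.obj i)]
    [∀ i, QuasiSeparatedSpace (D.obj i)] [CompactSpace c.pt] [QuasiSeparatedSpace c.pt]
    [LocallyOfFinitePresentation f] [QuasiCompact f] [QuasiSeparated f] [Coh.IsQCoh F] (hF : CohB1.IsFP F) (x : X)
    (hfl : FlatMod.IsFlatOverAt f F x) :
    Model D c f F (fun f₀ F₀ q => FlatMod.IsFlatOverAt f₀ F₀ (q x)) := by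
  obtain ⟨i, X₁, g₁, q₁, F₁, h1, h2, hsq, hq, hfp, ⟨e⟩, -⟩ := exists_module_model D c hc f F hF
  haveI := h1; haveI := h2; haveI := hq
  obtain ⟨l, -, hl⟩ := FlatStage.exists_isFlatOverAt D c i (𝟙 _) (IsPullback.id_vert (c.π.app i)) hc g₁ hsq F₁
    hfp x (Over.mk (𝟙 i)) (PullbackMod.isFlatOverAt_of_iso e.symm f x hfl)
  obtain ⟨X₂, g₂, q₂, F₂, a1, a2, a3, a4, a5, a6, a7⟩ := stage D c f F g₁ q₁ F₁ hsq hfp e l
  exact ⟨l.left, X₂, g₂, q₂, F₂, a1, a2, a3, a4, a5, a6, a7 x hl⟩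

include hc in
/-- A flat family comes from a flat family over some stage. -/
theorem exists_flat_model [∀ i, IsLocallyNoetherian (D.obj i)] [∀ i, CompactSpace (D.obj i)]
    [∀ i, QuasiSeparatedSpace (D.obj i)] [CompactSpace c.pt] [QuasiSeparatedSpace c.pt]
    [LocallyOfFinitePresentation f] [QuasiCompact f] [QuasiSeparated f] [Coh.IsQCoh F] (hF : CohB1.IsFP F)
    (hfl : FlatMod.IsFlatOver f F) :
    Model D c f F (fun f₀ F₀ _ => FlatMod.IsFlatOver f₀ F₀) := by
  obtain ⟨i, X₁, g₁, q₁, F₁, h1, h2, hsq, hq, hfp, ⟨e⟩, -⟩ := exists_module_model D c hc f F hF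
  haveI := h1; haveI := h2; haveI := hq
  haveI : CompactSpace X₁ := QuasiCompact.compactSpace_of_compactSpace g₁
  obtain ⟨l, hl⟩ := FlatStage.exists_isFlatOver D c i g₁ (𝟙 _) (IsPullback.id_vert (c.π.app i)) hsq hc
    F₁ hfp (fun x => PullbackMod.isFlatOverAt_of_iso e.symm f x (hfl x))
  let b : pullback (g₁ ≫ 𝟙 _) (D.map l.hom) ⟶ pullback (𝟙 (D.obj i)) (D.map l.hom) :=
    (AffLim.baseChangeMap D i g₁ (𝟙 _)).app l
  let g₂ : pullback (g₁ ≫ 𝟙 _) (D.map l.hom) ⟶ D.obj l.left := b ≫ pullback.snd (𝟙 _) (D.map l.hom)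
  let p₂ := pullback.fst (g₁ ≫ 𝟙 _) (D.map l.hom)
  let F₂ := (Scheme.Modules.pullback p₂).obj F₁
  haveI : Coh.IsQCoh F₂ := PullbackMod.isQCoh_pullback p₂ F₁
  have hsq₂ : IsPullback (𝟙 _) g₂ b (inv (pullback.snd (𝟙 (D.obj i)) (D.map l.hom))) :=
    IsPullback.of_horiz_isIso ⟨by simp [g₂]⟩
  have hfl₂ : FlatMod.IsFlatOver g₂ F₂ := fun z =>
    PullbackMod.isFlatOverAt_of_iso ((Scheme.Modules.pullbackId _).app F₂) g₂ z
      (PullbackMod.isFlatOverAt_baseChange hsq₂ F₂ z (hl _))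
  let q₂ : X ⟶ pullback (g₁ ≫ 𝟙 _) (D.map l.hom) := pullback.lift q₁ (f ≫ c.π.app l.left)
    (by rw [Category.comp_id, Category.assoc, c.w]; exact hsq.w)
  have hs : g₂ = pullback.snd (g₁ ≫ 𝟙 _) (D.map l.hom) := by simp [g₂, b, AffLim.baseChangeMap]
  have hsq₂' : IsPullback q₂ f g₂ (c.π.app l.left) := by
    rw [hs]
    refine IsPullback.of_right ?_ (pullback.lift_snd _ _ _) (IsPullback.of_hasPullback (g₁ ≫ 𝟙 _) (D.map l.hom))
    rw [pullback.lift_fst, c.w, Category.comp_id]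
    exact hsq
  refine ⟨l.left, _, g₂, q₂, F₂, ?_, ?_, hsq₂', inferInstance, PullbackMod.isFP_pullback p₂ F₁ hfp,
    ⟨(Scheme.Modules.pullbackComp q₂ p₂).app F₁ ≪≫
      (Scheme.Modules.pullbackCongr (pullback.lift_fst q₁ _ _)).app F₁ ≪≫ e⟩, hfl₂⟩
  · rw [hs]; exact MorphismProperty.pullback_snd (P := @LocallyOfFinitePresentation) _ _ (by rw [Category.comp_id]; infer_instance)
  · rw [hs]; exact MorphismProperty.pullback_snd (P := @QuasiCompact) _ _ (by rw [Category.comp_id]; infer_instance)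

section ZSys

variable {A : CommRingCat.{u}} {X : Scheme.{u}} (f : X ⟶ Spec A) [LocallyOfFinitePresentation f] [QuasiCompact f]
  [QuasiSeparated f] (F : X.Modules) [Coh.IsQCoh F]

/-- Descent to a finitely generated subring, keeping flatness at a point. -/
theorem exists_flatAt_subring (hF : CohB1.IsFP F) (x : X) (hfl : FlatMod.IsFlatOverAt f F x) :
    Model (FPModelLib.zSys A) (FPModelLib.zCone A) (X := X) f F
      (fun f₀ F₀ q => FlatMod.IsFlatOverAt f₀ F₀ (q x)) := by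
  haveI : CompactSpace (FPModelLib.zCone A).pt := inferInstanceAs (CompactSpace (Spec A))
  haveI : QuasiSeparatedSpace (FPModelLib.zCone A).pt := inferInstanceAs (QuasiSeparatedSpace (Spec A))
  exact exists_flatAt_model (FPModelLib.zSys A) (FPModelLib.zCone A) (FPModelLib.isLimitZCone A) (X := X) f F hF x hfl

/-- Descent to a finitely generated subring, keeping flatness. -/
theorem exists_flat_subring (hF : CohB1.IsFP F) (hfl : FlatMod.IsFlatOver f F) :
    Model (FPModelLib.zSys A) (FPModelLib.zCone A) (X := X) f F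
      (fun f₀ F₀ _ => FlatMod.IsFlatOver f₀ F₀) := by
  haveI : CompactSpace (FPModelLib.zCone A).pt := inferInstanceAs (CompactSpace (Spec A))
  haveI : QuasiSeparatedSpace (FPModelLib.zCone A).pt := inferInstanceAs (QuasiSeparatedSpace (Spec A))
  exact exists_flat_model (FPModelLib.zSys A) (FPModelLib.zCone A) (FPModelLib.isLimitZCone A) (X := X) f F hF hfl

end ZSys

end Groth.Agent.NoethDescLib

end
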